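import Groth.Agent.Lib.DvrCrit.Algebra
import Groth.Agent.Lib.Henselian.Unibranch
import Mathlib.RingTheory.DedekindDomain.IntegralClosure
import Mathlib.RingTheory.DedekindDomain.PID
import Mathlib.RingTheory.DiscreteValuationRing.Basic
import Mathlib.RingTheory.Polynomial.Tower
import Mathlib.FieldTheory.PrimitiveElement
import Mathlib.FieldTheory.IsSepClosed
import Mathlib.LinearAlgebra.TensorProduct.Finiteness

/-!
# Noetherianity of the generic geometric fibre of a Noetherian local algebra over a henselian DVR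

Let `V` be a henselian discrete valuation ring of characteristic zero with algebraically closed
residue field, `L` an algebraically closed algebraic extension of its fraction field and `B` a
Noetherian local `V`-algebra in whose maximal ideal the uniformizer lies. Then `L ⊗_V B` is
Noetherian: at each prime the fraction field of the image of `B` contains only finitely many elements
algebraic over the fraction field of `V`, as ramification is bounded by a dominating valuation.
-/

set_option maxHeartbeats 800000

universe u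

open IsLocalRing Polynomial TensorProduct

namespace Groth.Agent.Lib.MilnorFibre

variable (V : Type u) [CommRing V] [IsDomain V] [IsDiscreteValuationRing V] [HenselianLocalRing V]
  [IsSepClosed (ResidueField V)] [PerfectField (ResidueField V)] [CharZero V]
  (L : Type u) [Field L] [IsAlgClosed L] [Algebra V L] [FaithfulSMul V L] [Algebra.IsAlgebraic V L]

/-- A finite extension inside a field with a discrete valuation dominating `V` has degree at most the
valuation of the uniformizer. -/
theorem exists_pow_mul_finrank_le (K : Type u) [Field K] [Algebra V K] [IsFractionRing V K] [CharZero K]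
    (M0 : Type u) [Field M0] [Algebra K M0] [FiniteDimensional K M0] [Algebra V M0]
    [IsScalarTower V K M0] {π : V} (hπ : Irreducible π) {F : Type u} [Field F]
    (O : ValuationSubring F) (hO : IsDiscreteValuationRing O) (f : M0 →+* F)
    (hV : ∀ v, f (algebraMap V M0 v) ∈ O)
    (hπO : (⟨_, hV π⟩ : O) ∈ maximalIdeal O) {ϖ : O} (hϖ : Irreducible ϖ) {N : ℕ}
    (hN : Associated (⟨_, hV π⟩ : O) (ϖ ^ N)) :
    Module.finrank K M0 ≤ N := by
  classical
  haveI := hO
  haveI : FaithfulSMul V M0 := (faithfulSMul_iff_algebraMap_injective V M0).mpr (by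
    rw [IsScalarTower.algebraMap_eq V K M0]
    exact (algebraMap K M0).injective.comp (IsFractionRing.injective V K))
  haveI : Module.IsTorsionFree V M0 := inferInstance
  haveI : Algebra.IsSeparable K M0 := inferInstance
  let W := integralClosure V M0
  haveI : Module.Finite V W := IsIntegralClosure.finite V K M0 W
  haveI : IsDedekindDomain W := IsIntegralClosure.isDedekindDomain V K M0 W
  haveI : IsLocalRing W := Lib.Henselian.Unibranch.isLocalRing_of_isDomain V W
  haveI : IsLocalHom (algebraMap V W) :=
    RingHom.IsIntegral.isLocalHom Algebra.IsIntegral.isIntegral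
      (FaithfulSMul.algebraMap_injective V W)
  -- the residue field does not grow
  have hres : ∀ w : W, ∃ v : V, w - algebraMap V W v ∈ maximalIdeal W := fun w => by
    obtain ⟨c, hc⟩ := (IsAlgClosed.algebraMap_bijective_of_isIntegral (k := ResidueField V)
      (K := ResidueField W)).2 (residue W w)
    obtain ⟨c, rfl⟩ := residue_surjective c
    exact ⟨c, (residue_eq_zero_iff _).mp (by
      rw [map_sub, ← hc]; exact sub_eq_zero.mpr rfl)⟩
  obtain ⟨t, ht⟩ := (IsPrincipalIdealRing.principal (maximalIdeal W))
  have htmem : t ∈ maximalIdeal W := ht ▸ Submodule.mem_span_singleton_self t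
  have hπW : algebraMap V W π ∈ maximalIdeal W := fun h =>
    hπ.not_isUnit (IsUnit.of_map (algebraMap V W) π h)
  have hπ0 : algebraMap V W π ≠ 0 :=
    (map_ne_zero_iff _ (FaithfulSMul.algebraMap_injective V W)).mpr hπ.ne_zero
  have hnf : ¬ IsField W := fun h =>
    hπ0 ((Submodule.mem_bot W).mp (IsLocalRing.isField_iff_maximalIdeal_eq.mp h ▸ hπW))
  haveI : IsDiscreteValuationRing W :=
    { not_a_field' := fun h => hnf (IsLocalRing.isField_iff_maximalIdeal_eq.mpr h) }
  have htirr : Irreducible t := (IsDiscreteValuationRing.irreducible_iff_uniformizer t).mpr ht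
  obtain ⟨e, he⟩ := IsDiscreteValuationRing.associated_pow_irreducible hπ0 htirr
  -- `W` is spanned by the first `e` powers of `t`
  let S0 : ℕ → Submodule V W := fun j => Submodule.span V ((fun i : ℕ => t ^ i) '' {i | i < j})
  have hstep : ∀ j, ∀ w : W, ∃ s ∈ S0 j, ∃ w' : W, w = s + t ^ j * w' := by
    intro j
    induction j with
    | zero => exact fun w => ⟨0, zero_mem _, w, by rw [pow_zero, one_mul, zero_add]⟩
    | succ j IH =>
      intro w
      obtain ⟨s, hs, w', rfl⟩ := IH w
      obtain ⟨v, hv⟩ := hres w'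
      rw [ht, Submodule.mem_span_singleton] at hv
      obtain ⟨w'', hw''⟩ := hv
      refine ⟨s + v • t ^ j, add_mem (Submodule.span_mono (Set.image_mono fun i hi => Nat.lt_succ_of_lt hi) hs)
        (Submodule.smul_mem _ _ (Submodule.subset_span ⟨j, Nat.lt_succ_self j, rfl⟩)), w'', ?_⟩
      rw [Algebra.smul_def, pow_succ]
      rw [smul_eq_mul] at hw''
      linear_combination -(t ^ j) * hw''
  have hspan : S0 e = ⊤ := by
    refine top_le_iff.mp (Submodule.le_of_le_smul_of_le_jacobson_bot Module.Finite.fg_top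
      (maximalIdeal_le_jacobson _) fun w _ => ?_)
    obtain ⟨s, hs, w', rfl⟩ := hstep e w
    obtain ⟨u, hu⟩ := he.symm
    rw [← mul_one (t ^ e), ← u.mul_inv, ← mul_assoc (t ^ e), hu, mul_assoc, ← Algebra.smul_def]
    exact add_mem (Submodule.mem_sup_left hs) (Submodule.mem_sup_right
      (Submodule.smul_mem_smul hπ.not_isUnit Submodule.mem_top))
  have hne : Module.finrank K M0 ≤ e := by
    rw [← IsIntegralClosure.rank V K M0 W]
    have h1 := finrank_span_le_card (R := V) ((fun i : ℕ => t ^ i) '' {i | i < e})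
    rw [show Submodule.span V ((fun i : ℕ => t ^ i) '' {i | i < e}) = ⊤ from hspan, finrank_top] at h1
    refine h1.trans ?_
    rw [Set.toFinset_image]
    exact Finset.card_image_le.trans (by simp)
  -- compare with the valuation
  have hint : ∀ w : W, f (w : M0) ∈ O := fun w => by
    let g : V →+* O := (f.comp (algebraMap V M0)).codRestrict O.toSubring hV
    obtain ⟨p, hp, hpw⟩ := w.2
    have hroot : IsIntegral O (f (w : M0)) := ⟨p.map g, hp.map _, by
      rw [eval₂_map, show (algebraMap O F).comp g = f.comp (algebraMap V M0) from RingHom.ext fun _ => rfl,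
        ← hom_eval₂, hpw, map_zero]⟩
    obtain ⟨o, ho⟩ := IsIntegrallyClosed.isIntegral_iff.mp hroot
    exact ho ▸ o.2
  let θ : W →+* O := (f.comp W.val.toRingHom).codRestrict O.toSubring hint
  have hθπ : θ (algebraMap V W π) = ⟨_, hV π⟩ := Subtype.ext rfl
  have hθt : θ t ∈ maximalIdeal O := fun h => by
    obtain ⟨u, hu⟩ := he.symm
    have h1 : IsUnit (θ (algebraMap V W π)) := by
      rw [← hu, map_mul, map_pow]; exact (h.pow e).mul (u.isUnit.map θ)
    exact hπO (hθπ ▸ h1)
  rw [Irreducible.maximalIdeal_eq hϖ, Ideal.mem_span_singleton] at hθt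
  have hdvd : ϖ ^ e ∣ ϖ ^ N := by
    refine (pow_dvd_pow_of_dvd hθt e).trans ?_
    rw [← map_pow]
    refine (Associated.dvd ?_).trans hN.dvd
    rw [← hθπ]
    exact (he.map θ.toMonoidHom).symm
  exact hne.trans ((pow_dvd_pow_iff hϖ.ne_zero hϖ.not_isUnit).mp hdvd)

/-- An element of `L` has minimal polynomial over an intermediate field staying irreducible over any
field meeting `L` in that intermediate field. -/
theorem natDegree_le {K : Type u} [Field K] [Algebra K L] [Algebra.IsAlgebraic K L] {Ω : Type u} [Field Ω]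
    (a : L →+* Ω) (F : Subfield Ω) (M : IntermediateField K L) (hM : ∀ x, x ∈ M ↔ a x ∈ F) (θ : L)
    (g : F[X]) (hg : g ≠ 0) (hroot : g.eval₂ F.subtype (a θ) = 0) :
    (minpoly M θ).natDegree ≤ g.natDegree := by
  classical
  haveI : Algebra.IsAlgebraic M L := Algebra.IsAlgebraic.tower_top (K := K) M
  let aM : M →+* F := (a.comp M.val.toRingHom).codRestrict F fun x => (hM x).mp x.2
  have hint : IsIntegral M θ := Algebra.IsIntegral.isIntegral θ
  let fF := (minpoly M θ).map aM
  have hfF0 : fF ≠ 0 := ((minpoly.monic hint).map aM).ne_zero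
  have hfroot : Polynomial.aeval (a θ) fF = 0 := by
    rw [aeval_def, eval₂_map, show (algebraMap F Ω).comp aM = a.comp (algebraMap M L) from
      RingHom.ext fun _ => rfl, ← hom_eval₂, ← aeval_def, minpoly.aeval, map_zero]
  have hintF : IsIntegral F (a θ) :=
    ⟨fF, (minpoly.monic hint).map aM, by rw [← aeval_def]; exact hfroot⟩
  let μ := minpoly F (a θ)
  have hdeg : μ.natDegree ≤ g.natDegree :=
    natDegree_le_of_dvd (minpoly.dvd F _ (by rw [aeval_def]; exact hroot)) hg
  refine le_trans ?_ hdeg
  -- `μ` has coefficients in the image of `L`, hence of `M`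
  let fL := (minpoly M θ).map (algebraMap M L)
  have hsplit : fL.Splits := IsAlgClosed.splits fL
  have hmapeq : fF.map F.subtype = fL.map a := by
    rw [Polynomial.map_map, Polynomial.map_map]
    rfl
  have hdvd : μ.map F.subtype ∣ fL.map a := hmapeq ▸ Polynomial.map_dvd _ (minpoly.dvd F _ hfroot)
  have hfL0 : fL.map a ≠ 0 := hmapeq ▸ (map_ne_zero hfF0)
  have hsμ : (μ.map F.subtype).Splits := Splits.of_dvd (hsplit.map a) hfL0 hdvd
  have hμlift : μ.map F.subtype ∈ (mapRingHom a).range := by
    rw [hsμ.eq_prod_roots_of_monic ((minpoly.monic hintF).map _)]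
    refine multiset_prod_mem _ fun q hq => ?_
    obtain ⟨r, hr, rfl⟩ := Multiset.mem_map.mp hq
    have hr2 : r ∈ (fL.map a).roots := Multiset.mem_of_le (roots.le_of_dvd hfL0 hdvd) hr
    rw [hsplit.roots_map] at hr2
    obtain ⟨s, -, rfl⟩ := Multiset.mem_map.mp hr2
    exact ⟨X - C s, by simp⟩
  obtain ⟨p, hp⟩ := hμlift
  have hp' : p.map a = μ.map F.subtype := hp
  have hpM : ∀ i, p.coeff i ∈ M := fun i => (hM _).mpr (by
    rw [← coeff_map, hp', coeff_map]; exact (μ.coeff i).2)
  obtain ⟨pM, hpMmap⟩ : ∃ pM : M[X], pM.map (algebraMap M L) = p :=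
    (mem_lifts p).mp ((lifts_iff_coeff_lifts p).mpr fun i => ⟨⟨_, hpM i⟩, rfl⟩)
  have hpM0 : pM ≠ 0 := fun h => by
    rw [← hpMmap, h, Polynomial.map_zero, Polynomial.map_zero] at hp'
    exact (minpoly.ne_zero hintF) ((Polynomial.map_eq_zero F.subtype).mp hp'.symm)
  have hpθ : Polynomial.aeval θ pM = 0 := a.injective (by
    rw [map_zero, aeval_def, ← eval_map, hpMmap, ← eval₂_at_apply, ← eval_map, hp', eval_map]
    exact minpoly.aeval F (a θ))
  calc (minpoly M θ).natDegree ≤ pM.natDegree := natDegree_le_of_dvd (minpoly.dvd M θ hpθ) hpM0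
    _ = (pM.map (algebraMap M L)).natDegree := (natDegree_map _).symm
    _ = p.natDegree := by rw [hpMmap]
    _ = (p.map a).natDegree := (natDegree_map _).symm
    _ = μ.natDegree := by rw [hp', natDegree_map]

variable (B : Type u) [CommRing B] [IsLocalRing B] [IsNoetherianRing B] [Algebra V B]

/-- The generic geometric fibre of `B` is Noetherian. -/
theorem isNoetherianRing (hB : (maximalIdeal V).map (algebraMap V B) ≤ maximalIdeal B) :
    IsNoetherianRing (L ⊗[V] B) := by
  classical
  refine IsNoetherianRing.of_prime fun P hP => ?_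
  haveI := hP
  obtain ⟨π, hπ⟩ := IsDiscreteValuationRing.exists_irreducible V
  let T := L ⊗[V] B
  let Ω := FractionRing (T ⧸ P)
  let φ : T →+* Ω := (algebraMap (T ⧸ P) Ω).comp (Ideal.Quotient.mk P)
  have hφP : ∀ x, φ x = 0 ↔ x ∈ P := fun x => by
    rw [RingHom.comp_apply, map_eq_zero_iff _ (IsFractionRing.injective _ _),
      Ideal.Quotient.eq_zero_iff_mem]
  let a : L →+* Ω := φ.comp Algebra.TensorProduct.includeLeftRingHom
  let β : B →+* Ω := φ.comp (Algebra.TensorProduct.includeRight : B →ₐ[V] T).toRingHom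
  have haβ : ∀ v, a (algebraMap V L v) = β (algebraMap V B v) := fun v => by
    show φ (algebraMap V L v ⊗ₜ 1) = φ (1 ⊗ₜ algebraMap V B v)
    rw [Algebra.algebraMap_eq_smul_one, Algebra.algebraMap_eq_smul_one, TensorProduct.smul_tmul]
  let F : Subfield Ω := Subfield.closure (Set.range β)
  let K := FractionRing V
  letI : Algebra K L := FractionRing.liftAlgebra V L
  haveI : Algebra.IsAlgebraic K L := Algebra.IsAlgebraic.extendScalars (IsFractionRing.injective V K)
  haveI : CharZero K := charZero_of_injective_ringHom (IsFractionRing.injective V K)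
  let M : IntermediateField K L := (F.comap a).toIntermediateField fun c => by
    obtain ⟨x, y, -, rfl⟩ := IsFractionRing.div_surjective V c
    rw [Subfield.mem_comap, map_div₀, map_div₀, ← IsScalarTower.algebraMap_apply,
      ← IsScalarTower.algebraMap_apply, haβ, haβ]
    exact div_mem (Subfield.subset_closure ⟨_, rfl⟩) (Subfield.subset_closure ⟨_, rfl⟩)
  have hMmem : ∀ x, x ∈ M ↔ a x ∈ F := fun x => Iff.rfl
  -- a discrete valuation ring centred at the closed point
  let φB : B →+* F := β.codRestrict F fun b => Subfield.subset_closure ⟨b, rfl⟩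
  have hker : RingHom.ker φB < maximalIdeal B := by
    haveI : (RingHom.ker φB).IsPrime := RingHom.ker_isPrime _
    refine lt_of_le_of_ne (le_maximalIdeal (Ideal.IsPrime.ne_top inferInstance)) fun h => ?_
    have h1 : φB (algebraMap V B π) = 0 := by
      rw [← RingHom.mem_ker, h]
      exact hB (Ideal.mem_map_of_mem _ hπ.not_isUnit)
    have h2 : a (algebraMap V L π) = 0 := by rw [haβ]; exact congrArg Subtype.val h1
    rw [map_eq_zero, map_eq_zero_iff _ (FaithfulSMul.algebraMap_injective V L)] at h2
    exact hπ.ne_zero h2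
  have htop : Subfield.closure (Set.range φB ∪ ((∅ : Finset F) : Set F)) = ⊤ := by
    rw [Finset.coe_empty, Set.union_empty, eq_top_iff]
    rintro ⟨x, hx⟩ -
    have hle : F ≤ (Subfield.closure (Set.range φB)).map F.subtype :=
      Subfield.closure_le.mpr (by
        rintro _ ⟨b, rfl⟩
        exact ⟨φB b, Subfield.subset_closure ⟨b, rfl⟩, rfl⟩)
    obtain ⟨y, hy, hyx⟩ := hle hx
    exact (Subtype.ext hyx : y = ⟨x, hx⟩) ▸ hy
  obtain ⟨O, hO, hBO, hcentre⟩ := Lib.DvrCrit.exists_dvr φB ∅ htop (maximalIdeal B) hker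
  haveI := hO
  obtain ⟨ϖ, hϖ⟩ := IsDiscreteValuationRing.exists_irreducible O
  let πO : O := ⟨φB (algebraMap V B π), hBO _⟩
  have hπO0 : πO ≠ 0 := fun h => by
    have h1 : a (algebraMap V L π) = 0 := by
      rw [haβ]
      exact congrArg Subtype.val (show φB (algebraMap V B π) = 0 from congrArg Subtype.val h)
    rw [map_eq_zero, map_eq_zero_iff _ (FaithfulSMul.algebraMap_injective V L)] at h1
    exact hπ.ne_zero h1
  have hπOm : πO ∈ maximalIdeal O := by
    have h1 : algebraMap V B π ∈ maximalIdeal B := hB (Ideal.mem_map_of_mem _ hπ.not_isUnit)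
    rw [← hcentre] at h1
    exact h1
  obtain ⟨N, hN⟩ := IsDiscreteValuationRing.associated_pow_irreducible hπO0 hϖ
  -- finite subextensions of `M` are bounded
  have hbound : ∀ M0 : IntermediateField K L, M0 ≤ M → FiniteDimensional K M0 →
      Module.finrank K M0 ≤ N := fun M0 hle hfin => by
    let f : M0 →+* F := (a.comp M0.val.toRingHom).codRestrict F fun x => (hMmem x).mp (hle x.2)
    have hf : ∀ v, f (algebraMap V M0 v) = φB (algebraMap V B v) := fun v => Subtype.ext (haβ v)
    have hV' : ∀ v, f (algebraMap V M0 v) ∈ O := fun v => hf v ▸ hBO _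
    have heq : (⟨_, hV' π⟩ : O) = πO := Subtype.ext (hf π)
    exact exists_pow_mul_finrank_le V K M0 hπ O hO f hV' (heq ▸ hπOm) hϖ (heq ▸ hN)
  -- `M` is finite
  obtain ⟨M1, hM1, hM1fin, hM1max⟩ : ∃ M1 : IntermediateField K L, M1 ≤ M ∧ FiniteDimensional K M1 ∧
      ∀ M0 : IntermediateField K L, M0 ≤ M → FiniteDimensional K M0 →
        Module.finrank K M0 ≤ Module.finrank K M1 := by
    let S : Set ℕ := {n | ∃ M0 : IntermediateField K L, M0 ≤ M ∧ FiniteDimensional K M0 ∧
      Module.finrank K M0 = n}
    have hS : BddAbove S := ⟨N, by rintro n ⟨M0, h1, h2, rfl⟩; exact hbound M0 h1 h2⟩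
    have hne : S.Nonempty := ⟨_, ⊥, bot_le, inferInstance, rfl⟩
    obtain ⟨M1, h1, h2, h3⟩ := Nat.sSup_mem hne hS
    exact ⟨M1, h1, h2, fun M0 h h' => h3 ▸ le_csSup hS ⟨M0, h, h', rfl⟩⟩
  haveI := hM1fin
  have hMeq : M = M1 := le_antisymm (fun x hx => by
    haveI := IntermediateField.adjoin.finiteDimensional (K := K) (x := x) (Algebra.IsIntegral.isIntegral x)
    have h1 : IntermediateField.adjoin K {x} ⊔ M1 ≤ M :=
      sup_le (IntermediateField.adjoin_simple_le_iff.mpr hx) hM1
    have h2 := hM1max _ h1 inferInstance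
    have h3 : M1 = IntermediateField.adjoin K {x} ⊔ M1 :=
      IntermediateField.eq_of_le_of_finrank_le le_sup_right h2
    rw [h3]
    exact le_sup_left (b := M1) (IntermediateField.mem_adjoin_simple_self K x)) hM1
  haveI : FiniteDimensional K M := hMeq ▸ hM1fin
  -- a Noetherian subring carrying `M`
  let bM := Module.finBasis K M
  let iL : L →+* T := Algebra.TensorProduct.includeLeftRingHom
  let iB : B →+* T := (Algebra.TensorProduct.includeRight : B →ₐ[V] T).toRingHom
  let gen : Fin (Module.finrank K M) ⊕ Unit → T :=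
    Sum.elim (fun i => iL (bM i : L)) (fun _ => iL (algebraMap V L π)⁻¹)
  let ev : MvPolynomial (Fin (Module.finrank K M) ⊕ Unit) B →+* T := MvPolynomial.eval₂Hom iB gen
  let R := ev.range
  haveI : IsNoetherianRing R := isNoetherianRing_range ev
  have hRB : ∀ b, iB b ∈ R := fun b => ⟨MvPolynomial.C b, MvPolynomial.eval₂Hom_C _ _ b⟩
  have hRX : ∀ i, gen i ∈ R := fun i => ⟨MvPolynomial.X i, MvPolynomial.eval₂Hom_X' _ _ i⟩
  have hiV : ∀ v, iL (algebraMap V L v) = iB (algebraMap V B v) := fun v => by
    show algebraMap V L v ⊗ₜ[V] (1 : B) = (1 : L) ⊗ₜ[V] algebraMap V B v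
    rw [Algebra.algebraMap_eq_smul_one, Algebra.algebraMap_eq_smul_one, TensorProduct.smul_tmul]
  have hRK : ∀ c : K, iL (algebraMap K L c) ∈ R := fun c => by
    obtain ⟨v, s, hs, rfl⟩ := IsFractionRing.div_surjective V c
    have hs0 : s ≠ 0 := nonZeroDivisors.ne_zero hs
    obtain ⟨n, u, hsu⟩ := IsDiscreteValuationRing.eq_unit_mul_pow_irreducible hs0 hπ
    rw [map_div₀, ← IsScalarTower.algebraMap_apply, ← IsScalarTower.algebraMap_apply, hsu, map_mul,
      map_pow, div_eq_mul_inv, mul_inv, map_mul, map_mul, ← inv_pow, map_pow]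
    refine R.mul_mem (hiV v ▸ hRB _) (R.mul_mem ?_ (R.pow_mem (hRX (Sum.inr ())) n))
    rw [show (algebraMap V L (u : V))⁻¹ = algebraMap V L ((u⁻¹ : Vˣ) : V) from
      inv_eq_of_mul_eq_one_right (by rw [← map_mul, u.mul_inv, map_one]), hiV]
    exact hRB _
  have hRM : ∀ m ∈ M, iL m ∈ R := fun m hm => by
    have h := congrArg M.val.toLinearMap (bM.sum_repr ⟨m, hm⟩)
    rw [map_sum] at h
    have hm' : m = ∑ i, algebraMap K L (bM.repr ⟨m, hm⟩ i) * (bM i : L) := by
      refine h.symm.trans (Finset.sum_congr rfl fun i _ => ?_)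
      rw [map_smul, Algebra.smul_def]; rfl
    rw [hm', map_sum]
    exact R.sum_mem fun i _ => by rw [map_mul]; exact R.mul_mem (hRK _) (hRX (Sum.inl i))
  -- `P` is generated by its trace on `R`
  have hPR : P = (P.comap R.subtype).map R.subtype := by
    refine le_antisymm (fun x hx => ?_) Ideal.map_comap_le
    obtain ⟨s, hs⟩ := TensorProduct.exists_finset x
    let E := IntermediateField.adjoin M ((s.image Prod.fst : Finset L) : Set L)
    haveI : Algebra.IsAlgebraic M L := Algebra.IsAlgebraic.tower_top (K := K) M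
    haveI : FiniteDimensional M E :=
      IntermediateField.finiteDimensional_adjoin fun y _ => Algebra.IsIntegral.isIntegral y
    haveI : CharZero L := charZero_of_injective_ringHom (algebraMap K L).injective
    obtain ⟨θE, hθE⟩ := Field.exists_primitive_element M E
    have hθint : IsIntegral M (θE : L) := Algebra.IsIntegral.isIntegral _
    let n := (minpoly M (θE : L)).natDegree
    have hdecomp : ∀ l ∈ E, ∃ q : M[X], q.natDegree < n ∧ aeval (θE : L) q = l := fun l hl => by
      have h1 : l ∈ IntermediateField.adjoin M {(θE : L)} := by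
        have := congrArg (IntermediateField.map E.val) hθE
        rw [IntermediateField.adjoin_map, Set.image_singleton, ← AlgHom.fieldRange_eq_map,
          IntermediateField.fieldRange_val] at this
        exact (congrArg (l ∈ ·) this).mpr hl
      rw [← IntermediateField.mem_toSubalgebra,
        IntermediateField.adjoin_simple_toSubalgebra_of_isAlgebraic hθint.isAlgebraic,
        Algebra.adjoin_singleton_eq_range_aeval] at h1
      obtain ⟨q, rfl⟩ := h1
      exact ⟨q %ₘ minpoly M (θE : L),
        natDegree_modByMonic_lt _ (minpoly.monic hθint) (minpoly.ne_one M _),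
        aeval_modByMonic_eq_self_of_root (minpoly.aeval M _)⟩
    -- write `x` on the powers of `θ` with coefficients in `R`
    have hx' : ∃ c : ℕ → R, x = ∑ r ∈ Finset.range n, (c r : T) * iL (θE : L) ^ r := by
      have hq : ∀ p : L × B, ∃ c : ℕ → R, p ∈ s →
          p.1 ⊗ₜ[V] p.2 = ∑ r ∈ Finset.range n, (c r : T) * iL (θE : L) ^ r := fun p => by
        by_cases hp : p ∈ s
        · obtain ⟨q, hqdeg, hq⟩ := hdecomp p.1
            (IntermediateField.subset_adjoin _ _ (Finset.mem_image_of_mem Prod.fst hp))
          refine ⟨fun r => ⟨iL (q.coeff r : L) * iB p.2, R.mul_mem (hRM _ (q.coeff r).2) (hRB _)⟩,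
            fun _ => ?_⟩
          have h0 : p.1 ⊗ₜ[V] p.2 = iL p.1 * iB p.2 := by
            show _ = (p.1 ⊗ₜ[V] (1 : B)) * ((1 : L) ⊗ₜ[V] p.2)
            rw [Algebra.TensorProduct.tmul_mul_tmul, mul_one, one_mul]
          rw [h0, ← hq, aeval_eq_sum_range' hqdeg, map_sum, Finset.sum_mul]
          refine Finset.sum_congr rfl fun r _ => ?_
          rw [Algebra.smul_def, map_mul, map_pow]
          show _ = (iL (q.coeff r : L) * iB p.2) * _
          rw [show algebraMap M L (q.coeff r) = (q.coeff r : L) from rfl]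
          ring
        · exact ⟨fun _ => 0, fun h => (hp h).elim⟩
      choose c hc using hq
      refine ⟨fun r => ∑ p ∈ s, c p r, ?_⟩
      rw [hs, Finset.sum_congr rfl fun p hp => hc p hp, Finset.sum_comm]
      refine Finset.sum_congr rfl fun r _ => ?_
      rw [show ((∑ p ∈ s, c p r : R) : T) = ∑ p ∈ s, (c p r : T) from map_sum R.subtype _ _,
        Finset.sum_mul]
    obtain ⟨c, hc⟩ := hx'
    have hcF : ∀ r : R, φ (r : T) ∈ F := fun r => by
      obtain ⟨_, z, rfl⟩ := r
      show φ (ev z) ∈ F
      induction z using MvPolynomial.induction_on with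
      | C b => rw [MvPolynomial.eval₂Hom_C]; exact Subfield.subset_closure ⟨b, rfl⟩
      | add p q hp hq => rw [map_add, map_add]; exact add_mem hp hq
      | mul_X p i hp =>
        rw [map_mul, map_mul, MvPolynomial.eval₂Hom_X']
        refine mul_mem hp ?_
        rcases i with i | i
        · exact (hMmem _).mp (bM i).2
        · show a (algebraMap V L π)⁻¹ ∈ F
          rw [map_inv₀, haβ]
          exact inv_mem (Subfield.subset_closure ⟨_, rfl⟩)
    let g : F[X] := ∑ r ∈ Finset.range n, C (⟨φ (c r : T), hcF (c r)⟩ : F) * X ^ r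
    have hg0 : g = 0 := by
      by_contra hg
      have hev : g.eval₂ F.subtype (a (θE : L)) = 0 := by
        rw [show g.eval₂ F.subtype (a (θE : L)) = φ x by
          rw [hc, map_sum, eval₂_finsetSum]
          refine Finset.sum_congr rfl fun r _ => ?_
          rw [eval₂_mul, eval₂_C, eval₂_X_pow, map_mul, map_pow]
          rfl]
        exact (hφP x).mpr hx
      have h1 := natDegree_le L a F M hMmem (θE : L) g hg hev
      have h2 : g.natDegree < n := by
        refine (natDegree_lt_iff_degree_lt hg).mpr ?_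
        refine (degree_sum_le _ _).trans_lt ((Finset.sup_lt_iff (WithBot.bot_lt_coe n)).mpr fun r hr => ?_)
        exact (degree_C_mul_X_pow_le r _).trans_lt (WithBot.coe_lt_coe.mpr (Finset.mem_range.mp hr))
      exact absurd h1 (not_le.mpr h2)
    rw [hc]
    refine Ideal.sum_mem _ fun r hr => Ideal.mul_mem_right _ _ ?_
    have h3 := congrArg (coeff · r) hg0
    simp only [g, finsetSum_coeff, coeff_C_mul_X_pow, coeff_zero, Finset.sum_ite_eq] at h3
    rw [if_pos hr] at h3
    exact Ideal.mem_map_of_mem R.subtype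
      (show c r ∈ P.comap R.subtype from (hφP _).mp (congrArg Subtype.val h3))
  rw [hPR]
  exact Ideal.FG.map (IsNoetherian.noetherian (P.comap R.subtype)) _

end Groth.Agent.Lib.MilnorFibre
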